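import Cfsg.Agent.Lib.Helper6.TCD.U62K.SH
import Cfsg.Agent.Lib.Helper6.TCD.U62K.SC
import Cfsg.Agent.Lib.Helper6.TCD.U62K.NH
import Cfsg.Agent.Lib.Helper6.TCD.U62K.NC
import Cfsg.Agent.Lib.Helper6.TCD.U62K.WD
import Cfsg.Agent.Lib.Helper6.TCD.U62K.WI
set_option autoImplicit false
namespace Cfsg.Agent.Lib.Helper6.TCD.U62K
def n : Nat := 6391
def ncol : Nat := 8
def nrw : Nat := 114
def nw : Nat := 121
def tmax : Nat := 51050
def INV : Nat := 1985229328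
def N : Nat := 6336
end Cfsg.Agent.Lib.Helper6.TCD.U62K
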